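import Mathlib
import Groth.Agent.H26.InterDiv
import Groth.Agent.H26.InterSymm
import Groth.Agent.Lib.CurveRR
import Groth.Agent.NormSeq.Model
import Groth.Agent.Lib.DivisorExt

/-!
# Intersection numbers with exceptional curves over a local ring
-/

set_option autoImplicit false
set_option linter.style.haveILetI false
set_option linter.unusedSectionVars false
set_option backward.isDefEq.respectTransparency false
set_option backward.isDefEq.respectTransparency.types false
set_option maxHeartbeats 1000000

universe u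

open CategoryTheory CategoryTheory.Limits AlgebraicGeometry TopologicalSpace IsLocalRing
open Groth.Agent.H23
open scoped Groth.Agent.H23.PicMul

noncomputable section

namespace Groth.Agent.ExcForm

open Groth.Agent.H26

variable {Y E : Scheme.{u}} (e : E ⟶ Y) [IsClosedImmersion e] [IsIntegral E]

theorem range_eq_closure : Set.range e.base = closure {e (genericPoint E)} := by
  have h := (genericPoint_spec E).image e.continuous
  rw [Set.image_univ, e.isClosedEmbedding.isClosed_range.closure_eq] at h
  exact h.def.symm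

theorem support_ker : (e.ker.support : Set Y) = Set.range e.base := by
  rw [Scheme.Hom.support_ker]
  exact e.isClosedEmbedding.isClosed_range.closure_eq

/-- The generic point of a curve lies on no other curve. -/
theorem genPt_notMem (hE : topologicalKrullDim E = 1) {E' : Scheme.{u}} (e' : E' ⟶ Y) [IsClosedImmersion e']
    [IsIntegral E'] (hE' : topologicalKrullDim E' = 1) (hne : Set.range e.base ≠ Set.range e'.base) :
    e (genericPoint E) ∉ Set.range e'.base := by
  rintro ⟨y, hy⟩
  by_cases hy' : y = genericPoint E'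
  · subst hy'
    exact hne (by rw [range_eq_closure e, range_eq_closure e', hy])
  · have hsub : Set.range e.base ⊆ e'.base '' closure {y} := by
      rw [range_eq_closure e, ← hy, ← e'.isClosedEmbedding.closure_image_eq, Set.image_singleton]
    have hcl : IsClosed ({y} : Set E') :=
      Groth.Agent.CurvePsi.isClosed_of_dim_le_one hE'.le (genericPoint_specializes y) hy'
    rw [hcl.closure_eq, Set.image_singleton] at hsub
    haveI : Subsingleton E := ⟨fun a b => e.isClosedEmbedding.injective
      ((hsub ⟨a, rfl⟩).trans (hsub ⟨b, rfl⟩).symm)⟩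
    have h0 : topologicalKrullDim E ≤ 0 := by
      rw [topologicalKrullDim, Order.krullDim_eq_of_orderIso irreducibleSetEquivPoints]
      exact Order.krullDim_nonpos_of_subsingleton
    rw [hE] at h0
    exact absurd h0 (by decide)

/-- Curves over the closed point of a birational model are effective Cartier divisors. -/
theorem isEffCartier_ker [IsIntegral Y] [IsLocallyNoetherian Y]
    (hd : ∀ y : Y, ringKrullDim (Y.presheaf.stalk y) ≤ 2)
    (hreg : ∀ y : Y, IsRegularLocalRing (Y.presheaf.stalk y)) (hE : topologicalKrullDim E = 1)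
    (hne : e (genericPoint E) ≠ genericPoint Y) :
    BlowUp.IsEffCartierIdeal e.ker ∧ ringKrullDim (Y.presheaf.stalk (e (genericPoint E))) = 1 := by
  haveI : IsIntegral e.ker.subscheme := by
    haveI : Nonempty ↥(e.ker.subscheme : Scheme.{u}) := ⟨e.toImage (genericPoint _)⟩
    exact isIntegral_of_isOpenImmersion (inv e.toImage)
  set η := e (genericPoint E) with hη
  have hdim1 : ringKrullDim (Y.presheaf.stalk η) = 1 := by
    rw [ringKrullDim_stalk_eq_coheight]
    obtain ⟨w, hw⟩ : ∃ w : E, w ≠ genericPoint E := by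
      by_contra hc
      push Not at hc
      haveI : Subsingleton E := ⟨fun a b => (hc a).trans (hc b).symm⟩
      have h0 : topologicalKrullDim E ≤ 0 := by
        rw [topologicalKrullDim, Order.krullDim_eq_of_orderIso irreducibleSetEquivPoints]
        exact Order.krullDim_nonpos_of_subsingleton
      rw [hE] at h0
      exact absurd h0 (by decide)
    have hlt : e w < η := by
      refine lt_of_le_not_ge ((genericPoint_specializes w).map e.continuous) fun h => hw ?_
      exact e.isClosedEmbedding.injective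
        (Specializes.antisymm h ((genericPoint_specializes w).map e.continuous)).eq
    have hmax : ¬ IsMax η := fun hm => hne
      (Specializes.antisymm (hm (genericPoint_specializes η)) (genericPoint_specializes η)).eq
    have h2 := hd (e w)
    rw [ringKrullDim_stalk_eq_coheight] at h2
    have h2' : Order.coheight (e w) ≤ (2 : ℕ∞) := WithBot.coe_le_coe.1 h2
    have h3 : Order.coheight η + 1 ≤ Order.coheight (e w) := Order.coheight_add_one_le hlt
    have hc : (1 : ℕ∞) ≤ Order.coheight η := Order.one_le_iff_pos.2 (Order.coheight_pos.2 hmax)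
    have : Order.coheight η = 1 := by
      refine le_antisymm ?_ hc
      have h4 : Order.coheight η + 1 ≤ 1 + 1 := (h3.trans h2').trans (by simp [one_add_one_eq_two])
      exact (ENat.add_le_add_iff_right (by simp)).1 h4
    rw [this]
    rfl
  refine ⟨DivX.isEffCartier_of_codim_one _ ?_ fun x _ => @RegUFD.ufd (Y.presheaf.stalk x) _ (hreg x), hdim1⟩
  have hgen : e.ker.subschemeι (genericPoint e.ker.subscheme) = η := by
    have h := (genericPoint_spec e.ker.subscheme).image e.ker.subschemeι.continuous
    rw [Set.image_univ, Scheme.IdealSheafData.range_subschemeι, Scheme.Hom.support_ker] at h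
    rw [closure_closure, e.isClosedEmbedding.isClosed_range.closure_eq] at h
    exact h.eq (range_eq_closure e).symm
  rw [hgen]
  exact hdim1

section Field

variable {k : Type u} [Field k] (s : E ⟶ Spec (CommRingCat.of k)) [IsProper s]

/-- Degree of a divisor on a curve not contained in it. -/
theorem deg_eq_finrank (hE : topologicalKrullDim E = 1) {I : Y.IdealSheafData} (hI : BlowUp.IsEffCartierIdeal I)
    (hη : e (genericPoint E) ∉ (I.support : Set Y)) {L : Y.Modules} (hL : ClSub.IsInverseOf L (ClSub.idealMod I)) :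
    @Curv2.deg k _ E ⟨s⟩ ((Scheme.Modules.pullback e).obj L) 1 =
      ((@Module.finrank k (Coh.HH E (ClSub.quotMod (I.comap e)) 0) _ _
        (@Coh.moduleOver k _ E ⟨s⟩ _ _) : ℕ) : ℤ) := by
  letI : E.Over (Spec (CommRingCat.of k)) := ⟨s⟩
  haveI : IsProper (E ↘ Spec (CommRingCat.of k)) := ‹IsProper s›
  have hI' : BlowUp.IsEffCartierIdeal (I.comap e) := Groth.Agent.S8862.result e I hI fun ξ hξ => by
    rw [← hξ _ (genericPoint_specializes ξ)]
    exact hη
  have hLi := ArInter.isInvertible_of_inverse (IdealCl.isInvertible_idealMod hI) hL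
  have hpL := PicClLib.isInvertible_pullback e hLi
  obtain ⟨e1⟩ := InterDiv.nonempty_pullback_idealMod e I hI hI'
  obtain ⟨e2⟩ := PicMul.pull e L (ClSub.idealMod I)
  obtain ⟨e3⟩ := PicClLib.nonempty_pullback_structureModule e
  obtain ⟨e4⟩ := hL
  have hinv : ClSub.IsInverseOf ((Scheme.Modules.pullback e).obj L) (ClSub.idealMod (I.comap e)) := by
    refine PicMul.cl_eq_iff.1 ?_
    rw [PicMul.cl_tensor, ← PicMul.cl_eq_iff.2 ⟨e1⟩, ← PicMul.cl_tensor,
      ← PicMul.cl_eq_iff.2 ⟨e2⟩]
    exact PicMul.cl_eq_iff.2 ⟨(Scheme.Modules.pullback e).mapIso e4 ≪≫ e3⟩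
  have hO := InvEnd.isFinLocFreeOfRank_one (ArInter.isInvertible_structure E)
  have h := (Groth.Agent.S1604.result k E hE.le
    (I.comap e) hI' _ hpL hinv 1 (Coh.structureModule E) hO).2
  obtain ⟨e5⟩ : Nonempty (CohB1.tensorMod (Coh.structureModule E)
      ((Scheme.Modules.pullback e).obj L) ≅ (Scheme.Modules.pullback e).obj L) := by
    refine PicMul.cl_eq_iff.1 ?_
    rw [PicMul.cl_tensor, ← PicMul.one_def, one_mul]
  rw [← CurveRR.deg_congr _ e5, h]
  simp [Curv2.deg]

theorem deg_nonneg_and_eq_zero_iff (hE : topologicalKrullDim E = 1) {I : Y.IdealSheafData}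
    (hI : BlowUp.IsEffCartierIdeal I) (hη : e (genericPoint E) ∉ (I.support : Set Y)) {L : Y.Modules}
    (hL : ClSub.IsInverseOf L (ClSub.idealMod I)) :
    0 ≤ @Curv2.deg k _ E ⟨s⟩ ((Scheme.Modules.pullback e).obj L) 1 ∧
      (@Curv2.deg k _ E ⟨s⟩ ((Scheme.Modules.pullback e).obj L) 1 = 0 ↔
        Disjoint (Set.range e.base) (I.support : Set Y)) := by
  letI : E.Over (Spec (CommRingCat.of k)) := ⟨s⟩
  haveI : IsProper (E ↘ Spec (CommRingCat.of k)) := ‹IsProper s›
  rw [deg_eq_finrank e s hE hI hη hL]
  refine ⟨Int.natCast_nonneg _, ?_⟩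
  rw [Int.natCast_eq_zero, InterDiv.finrank_quotMod_eq_zero_iff, Scheme.IdealSheafData.support_comap]
  rw [Set.disjoint_left]
  constructor
  · rintro h _ ⟨c, rfl⟩ hc
    exact (Set.eq_empty_iff_forall_notMem.1 h c) hc
  · intro h
    exact Set.eq_empty_iff_forall_notMem.2 fun c hc => h ⟨c, rfl⟩ hc

/-- Degrees of pullbacks are additive. -/
theorem deg_pullback_mul (hE : topologicalKrullDim E = 1) {L M : Y.Modules}
    (hL : PicF.IsInvertible L) (hM : PicF.IsInvertible M) :
    @Curv2.deg k _ E ⟨s⟩ ((Scheme.Modules.pullback e).obj (CohB1.tensorMod L M)) 1 =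
      @Curv2.deg k _ E ⟨s⟩ ((Scheme.Modules.pullback e).obj L) 1 +
        @Curv2.deg k _ E ⟨s⟩ ((Scheme.Modules.pullback e).obj M) 1 := by
  letI : E.Over (Spec (CommRingCat.of k)) := ⟨s⟩
  haveI : IsProper (E ↘ Spec (CommRingCat.of k)) := ‹IsProper s›
  obtain ⟨a⟩ := PicMul.pull e L M
  rw [CurveRR.deg_congr k a]
  exact CurveRR.deg_tensor k hE (PicClLib.isInvertible_pullback e hL) (PicClLib.isInvertible_pullback e hM)

theorem deg_pullback_congr (hE : topologicalKrullDim E = 1) {L M : Y.Modules} (h : PicF.cl L = PicF.cl M) :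
    @Curv2.deg k _ E ⟨s⟩ ((Scheme.Modules.pullback e).obj L) 1 =
      @Curv2.deg k _ E ⟨s⟩ ((Scheme.Modules.pullback e).obj M) 1 := by
  letI : E.Over (Spec (CommRingCat.of k)) := ⟨s⟩
  haveI : IsProper (E ↘ Spec (CommRingCat.of k)) := ‹IsProper s›
  obtain ⟨a⟩ := PicMul.cl_eq_iff.1 h
  exact CurveRR.deg_congr k ((Scheme.Modules.pullback e).mapIso a) 1

theorem deg_pullback_structure (hE : topologicalKrullDim E = 1) :
    @Curv2.deg k _ E ⟨s⟩ ((Scheme.Modules.pullback e).obj (Coh.structureModule Y)) 1 = 0 := by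
  letI : E.Over (Spec (CommRingCat.of k)) := ⟨s⟩
  haveI : IsProper (E ↘ Spec (CommRingCat.of k)) := ‹IsProper s›
  obtain ⟨a⟩ := PicClLib.nonempty_pullback_structureModule e
  rw [CurveRR.deg_congr k a]
  exact CurveDeg.deg_structureModule k

end Field

section Local

variable {R : Type u} [CommRing R] [IsLocalRing R] (π : Y ⟶ Spec (CommRingCat.of R))

/-- The degree as a length over the base. -/
theorem deg_eq_lengthH (hE : topologicalKrullDim E = 1) (s : E ⟶ Spec (CommRingCat.of (ResidueField R)))
    [IsProper s] (hs : e ≫ π = s ≫ Spec.map (CommRingCat.ofHom (IsLocalRing.residue R)))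
    {I : Y.IdealSheafData} (hI : BlowUp.IsEffCartierIdeal I) (hη : e (genericPoint E) ∉ (I.support : Set Y))
    {L : Y.Modules} (hL : ClSub.IsInverseOf L (ClSub.idealMod I)) :
    @Curv2.deg (ResidueField R) _ E ⟨s⟩ ((Scheme.Modules.pullback e).obj L) 1 =
      (((@Module.length R (Coh.HH Y (ClSub.quotMod (I ⊔ e.ker)) 0) _ _
        (@Coh.moduleOver R _ Y ⟨π⟩ _ _)).toNat : ℕ) : ℤ) := by
  rw [deg_eq_finrank e s hE hI hη hL]
  congr 1
  let k := ResidueField R
  letI : Y.Over (Spec (CommRingCat.of R)) := ⟨π⟩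
  letI : E.Over (Spec (CommRingCat.of k)) := ⟨s⟩
  haveI : IsProper (E ↘ Spec (CommRingCat.of k)) := ‹IsProper s›
  let D := I.comap e
  let g : D.subscheme ⟶ Y := D.subschemeι ≫ e
  let fk : D.subscheme ⟶ Spec (CommRingCat.of k) := D.subschemeι ≫ s
  letI : D.subscheme.Over (Spec (CommRingCat.of k)) := ⟨fk⟩
  letI : D.subscheme.Over (Spec (CommRingCat.of R)) := ⟨fk ≫ Spec.map (CommRingCat.ofHom (IsLocalRing.residue R))⟩
  have hker : g.ker = I ⊔ e.ker := InterSymm.map_comap_eq e I
  have hO : Coh.IsQCoh (Coh.structureModule D.subscheme) := QCoh.isQCoh_structureModule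
  obtain ⟨a⟩ := DivisorExt.nonempty_quotMod_iso g
  rw [hker] at a
  obtain ⟨b⟩ := DivisorExt.nonempty_quotMod_iso D.subschemeι
  rw [Scheme.IdealSheafData.ker_subschemeι] at b
  obtain ⟨c⟩ := PnCoh.exists_linearEquiv_push k D.subschemeι (rfl : D.subschemeι ≫ s = fk) hO 0
  have hw : g ≫ π = fk ≫ Spec.map (CommRingCat.ofHom (IsLocalRing.residue R)) := by
    show (D.subschemeι ≫ e) ≫ π = (D.subschemeι ≫ s) ≫ _
    rw [Category.assoc, hs, Category.assoc]
  obtain ⟨d⟩ := PnCoh.exists_linearEquiv_push R g hw hO 0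
  let eq1 := (NormalLib.hhIso (A := k) b 0).trans c.symm
  let eq2 := (NormalLib.hhIso (A := R) a 0).trans d.symm
  haveI := CurveCohLib.isNoetherian_of_proper (k := k) (X := E)
  haveI := CurveCohLib.finite_HH (k := k) (X := E) (ParShLib.isCoh_quotMod D) 0
  haveI : Module.Finite k (Coh.HH D.subscheme (Coh.structureModule D.subscheme) 0) := Module.Finite.equiv eq1
  let W := D.subscheme
  haveI : IsScalarTower R k (Coh.HH W (Coh.structureModule W) 0) := IsScalarTower.of_algebraMap_smul fun r x => by
    show Sheaf.H.map (Coh.smulAb _ (Coh.toGlobal fk (IsLocalRing.residue R r))) 0 x =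
      Sheaf.H.map (Coh.smulAb _ (Coh.toGlobal (fk ≫ Spec.map (CommRingCat.ofHom (IsLocalRing.residue R))) r)) 0 x
    congr 3
    show fk.appTop ((Scheme.ΓSpecIso (CommRingCat.of k)).inv (IsLocalRing.residue R r)) =
      fk.appTop ((Spec.map (CommRingCat.ofHom (IsLocalRing.residue R))).appTop
        ((Scheme.ΓSpecIso (CommRingCat.of R)).inv r))
    exact congrArg fk.appTop (ConcreteCategory.congr_hom
      (Scheme.ΓSpecIso_inv_naturality (CommRingCat.ofHom (IsLocalRing.residue R))) r)
  rw [eq2.length_eq, eq1.finrank_eq, Module.length_eq_of_surjective (R := k) IsLocalRing.residue_surjective,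
    Module.length_eq_finrank, ENat.toNat_coe]

/-- Symmetry of the intersection numbers of distinct curves over the closed point. -/
theorem deg_symm (hE : topologicalKrullDim E = 1) (s : E ⟶ Spec (CommRingCat.of (ResidueField R)))
    [IsProper s] (hs : e ≫ π = s ≫ Spec.map (CommRingCat.ofHom (IsLocalRing.residue R)))
    {E' : Scheme.{u}} (e' : E' ⟶ Y) [IsClosedImmersion e'] [IsIntegral E'] (hE' : topologicalKrullDim E' = 1)
    (s' : E' ⟶ Spec (CommRingCat.of (ResidueField R))) [IsProper s']
    (hs' : e' ≫ π = s' ≫ Spec.map (CommRingCat.ofHom (IsLocalRing.residue R)))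
    (hne : Set.range e.base ≠ Set.range e'.base)
    (h1 : BlowUp.IsEffCartierIdeal e.ker) (h2 : BlowUp.IsEffCartierIdeal e'.ker) {L L' : Y.Modules}
    (hL : ClSub.IsInverseOf L (ClSub.idealMod e.ker)) (hL' : ClSub.IsInverseOf L' (ClSub.idealMod e'.ker)) :
    @Curv2.deg (ResidueField R) _ E ⟨s⟩ ((Scheme.Modules.pullback e).obj L') 1 =
      @Curv2.deg (ResidueField R) _ E' ⟨s'⟩ ((Scheme.Modules.pullback e').obj L) 1 := by
  rw [deg_eq_lengthH e π hE s hs h2 (by rw [support_ker]; exact genPt_notMem e hE e' hE' hne) hL',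
    deg_eq_lengthH e' π hE' s' hs' h1 (by rw [support_ker]; exact genPt_notMem e' hE' e hE hne.symm) hL,
    sup_comm]

end Local

end Groth.Agent.ExcForm
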