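import Mathlib
import Groth.Agent.ExcForm.Pair
import Groth.Agent.H26.InterForm
import Groth.Agent.H26.BiratFibre
import Groth.Agent.H26.IdealCl
import Groth.Agent.ModPairLib.Quot
import Groth.Agent.PointBlow.CartierPart
import Groth.Agent.BlowUpLib.Local
import Groth.Agent.GeomIrrSpread.SmoothNeutral

/-!
# The intersection form of exceptional curves is negative definite
-/

set_option autoImplicit false
set_option linter.style.haveILetI false
set_option linter.unusedSectionVars false
set_option backward.isDefEq.respectTransparency false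
set_option backward.isDefEq.respectTransparency.types false
set_option maxHeartbeats 1000000

universe u

open CategoryTheory CategoryTheory.Limits AlgebraicGeometry TopologicalSpace IsLocalRing Opposite
open Groth.Agent.H23
open Groth.Agent.H23.StalkIdeal
open scoped Groth.Agent.H23.PicMul

noncomputable section

namespace Groth.Agent.ExcForm

open Groth.Agent.H26

/-- A symmetric matrix with nonpositive weighted rows, one of them negative, on a connected graph. -/
theorem form_neg {r : ℕ} (A : Fin r → Fin r → ℚ) (c : Fin r → ℚ) (hsym : ∀ i j, A i j = A j i)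
    (hoff : ∀ i j, i ≠ j → 0 ≤ A i j) (hc : ∀ i, 0 < c i) (hrow : ∀ i, ∑ j, c j * A i j ≤ 0)
    (hstrict : ∃ i, ∑ j, c j * A i j < 0)
    (hconn : ∀ S : Finset (Fin r), S.Nonempty → S ≠ Finset.univ → ∃ i ∈ S, ∃ j ∉ S, A i j ≠ 0)
    (x : Fin r → ℚ) (hx : x ≠ 0) : InterForm.form A x < 0 := by
  classical
  let b : Fin r → ℚ := fun i => ∑ j, c j * A i j
  let A' : Option (Fin r) → Option (Fin r) → ℚ := fun p q => match p, q with
    | some i, some j => A i j
    | some i, none => -b i
    | none, some j => -b j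
    | none, none => ∑ i, c i * b i
  let m : Option (Fin r) → ℚ := fun p => p.elim 1 c
  let a : Option (Fin r) → ℚ := fun p => p.elim 0 x
  have h1 : ∀ p q, A' p q = A' q p := by
    rintro (_ | i) (_ | j) <;> first | rfl | exact hsym i j
  have h2 : ∀ p q, p ≠ q → 0 ≤ A' p q := by
    rintro (_ | i) (_ | j) h
    · exact absurd rfl h
    · exact neg_nonneg.2 (hrow j)
    · exact neg_nonneg.2 (hrow i)
    · exact hoff i j fun e => h (congrArg some e)
  have h3 : ∀ p, ∑ q, m q * A' p q = 0 := by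
    rintro (_ | i)
    · rw [Fintype.sum_option]
      show 1 * (∑ i, c i * b i) + ∑ j, c j * -b j = 0
      simp only [one_mul, mul_neg, Finset.sum_neg_distrib, add_neg_cancel]
    · rw [Fintype.sum_option]
      show 1 * -b i + ∑ j, c j * A i j = 0
      simp only [one_mul, b, neg_add_cancel]
  have h4 : ∀ p, 0 < m p := by
    rintro (_ | i)
    · exact one_pos
    · exact hc i
  have hconn' : ∀ S : Finset (Option (Fin r)), S.Nonempty → S ≠ Finset.univ →
      ∃ i ∈ S, ∃ j ∉ S, A' i j ≠ 0 := by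
    intro S hS hS'
    obtain ⟨i₁, hi₁⟩ := hstrict
    let T : Finset (Fin r) := Finset.univ.filter fun i => some i ∈ S
    have hT : ∀ i, i ∈ T ↔ some i ∈ S := fun i => by simp [T]
    by_cases hT0 : T.Nonempty
    · by_cases hT1 : T = Finset.univ
      · have hn : none ∉ S := fun hn => hS' (Finset.eq_univ_iff_forall.2 fun p => by
          rcases p with _ | i
          · exact hn
          · exact (hT i).1 (hT1 ▸ Finset.mem_univ i))
        exact ⟨some i₁, (hT i₁).1 (hT1 ▸ Finset.mem_univ _), none, hn, neg_ne_zero.2 hi₁.ne⟩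
      · obtain ⟨i, hi, j, hj, hij⟩ := hconn T hT0 hT1
        exact ⟨some i, (hT i).1 hi, some j, fun h => hj ((hT j).2 h), hij⟩
    · have hn : none ∈ S := by
        obtain ⟨p, hp⟩ := hS
        rcases p with _ | i
        · exact hp
        · exact absurd ⟨i, (hT i).2 hp⟩ hT0
      exact ⟨none, hn, some i₁, fun h => hT0 ⟨i₁, (hT i₁).2 h⟩, neg_ne_zero.2 hi₁.ne⟩
  have hval : InterForm.form A' a = InterForm.form A x := by
    simp only [InterForm.form, Fintype.sum_option, a, A', Option.elim]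
    simp
  rw [← hval]
  refine lt_of_le_of_ne (InterForm.form_nonpos A' m h1 h2 h3 h4 a) fun h0 => ?_
  obtain ⟨t, ht⟩ := InterForm.propto_of_form_eq_zero A' m h1 h2 h3 h4 hconn' h0
  have ht0 : t = 0 := by
    have := ht none
    simpa [a, m] using this.symm
  exact hx (funext fun i => by simpa [a, ht0] using ht (some i))

variable {Y : Scheme.{u}} [IsIntegral Y] [IsLocallyNoetherian Y] {r : ℕ} (E : Fin r → Scheme.{u})
  (e : ∀ i, E i ⟶ Y) [∀ i, IsClosedImmersion (e i)] [∀ i, IsIntegral (E i)]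

/-- Splitting off the curves from an effective divisor. -/
theorem exists_decomp (hE : ∀ i, topologicalKrullDim (E i) = 1)
    (hdist : ∀ i j, i ≠ j → Set.range (e i).base ≠ Set.range (e j).base)
    (heff : ∀ i, BlowUp.IsEffCartierIdeal (e i).ker)
    (δ : Fin r → Y.IdealSheafData → ℤ)
    (hδ : ∀ i A B, BlowUp.IsEffCartierIdeal A → BlowUp.IsEffCartierIdeal B → δ i (A * B) = δ i A + δ i B)
    (D : Y.IdealSheafData) (hD : BlowUp.IsEffCartierIdeal D) :
    ∃ (c : Fin r → ℕ) (D' : Y.IdealSheafData), BlowUp.IsEffCartierIdeal D' ∧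
      (∀ i, e i (genericPoint (E i)) ∉ (D'.support : Set Y)) ∧
      (∀ i, e i (genericPoint (E i)) ∈ (D.support : Set Y) → 0 < c i) ∧
      (∀ y ∈ (D.support : Set Y), y ∈ (D'.support : Set Y) ∨ ∃ i, y ∈ Set.range (e i).base) ∧
      ∀ i, δ i D = (∑ j, (c j : ℤ) * δ i (e j).ker) + δ i D' := by
  classical
  let η : Fin r → Y := fun i => e i (genericPoint (E i))
  have hne : ∀ (D : Y.IdealSheafData), BlowUp.IsEffCartierIdeal D → ∀ i,
      ∃ n, ¬ sI D (η i) ≤ maximalIdeal (Y.presheaf.stalk (η i)) ^ n := by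
    intro D hD i
    haveI : IsNoetherianRing (Y.presheaf.stalk (η i)) := inferInstance
    by_contra hc
    push Not at hc
    have h0 : sI D (η i) ≤ ⊥ := fun a ha => by
      rw [← Ideal.iInf_pow_eq_bot_of_isLocalRing (maximalIdeal (Y.presheaf.stalk (η i))) (maximalIdeal.isMaximal _).ne_top]
      exact Ideal.mem_iInf.2 fun n => hc n ha
    obtain ⟨U, hxU, a, ha, hU⟩ := hD (η i)
    rw [sI_eq D U hxU, CDivEq.stk, hU, Ideal.map_span, Set.image_singleton, le_bot_iff,
      Ideal.span_singleton_eq_bot] at h0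
    exact nonZeroDivisors.ne_zero (CDivEq.germ_mem_nonZeroDivisors U hxU ha) h0
  suffices h : ∀ N : ℕ, ∀ D : Y.IdealSheafData, ∀ hD : BlowUp.IsEffCartierIdeal D,
      (∑ i, Nat.find (hne D hD i)) ≤ N →
      ∃ (c : Fin r → ℕ) (D' : Y.IdealSheafData), BlowUp.IsEffCartierIdeal D' ∧
        (∀ i, η i ∉ (D'.support : Set Y)) ∧
        (∀ i, η i ∈ (D.support : Set Y) → 0 < c i) ∧
        (∀ y ∈ (D.support : Set Y), y ∈ (D'.support : Set Y) ∨ ∃ i, y ∈ Set.range (e i).base) ∧
        ∀ i, δ i D = (∑ j, (c j : ℤ) * δ i (e j).ker) + δ i D' from h _ D hD le_rfl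
  intro N
  induction N using Nat.strong_induction_on with
  | _ N ih =>
    intro D hD hN
    by_cases hk : ∃ k, η k ∈ (D.support : Set Y)
    swap
    · push Not at hk
      exact ⟨0, D, hD, hk, fun i hi => absurd hi (hk i), fun y hy => Or.inl hy, fun i => by simp⟩
    obtain ⟨k, hk⟩ := hk
    have hsub : Set.range (e k).base ⊆ (D.support : Set Y) := by
      rw [range_eq_closure (e k)]
      exact D.support.isClosed.closure_subset_iff.2 (Set.singleton_subset_iff.2 hk)
    have hle : D ≤ (e k).ker := by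
      rw [← Scheme.IdealSheafData.map_bot]
      refine Scheme.IdealSheafData.le_map_iff_comap_le.2 ?_
      have hs : ((D.comap (e k)).support : Set (E k)) = Set.univ := by
        rw [Scheme.IdealSheafData.support_comap]
        exact Set.eq_univ_of_forall fun w => hsub ⟨w, rfl⟩
      have h1 : D.comap (e k) ≤ Scheme.IdealSheafData.vanishingIdeal (D.comap (e k)).support :=
        Scheme.IdealSheafData.le_support_iff_le_vanishingIdeal.1 le_rfl
      have h2 : (D.comap (e k)).support = (⊥ : (E k).IdealSheafData).support :=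
        TopologicalSpace.Closeds.ext (by rw [hs, Scheme.IdealSheafData.support_bot]; rfl)
      rw [h2, Scheme.IdealSheafData.vanishingIdeal_support] at h1
      refine h1.trans (le_of_eq ?_)
      refine Scheme.IdealSheafData.ext (funext fun U => ?_)
      haveI : _root_.IsReduced Γ(E k, U.1) := IsReduced.component_reduced U.1
      simp
    obtain ⟨D₁, hD₁, hmul⟩ : ∃ D₁, BlowUp.IsEffCartierIdeal D₁ ∧ D = D₁ * (e k).ker := by
      refine ⟨_, ?_, (ModPairLib.colon_mul (heff k) hle).symm⟩
      refine ModPairLib.isEffCartier_of_mul (heff k) ?_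
      rw [ModPairLib.colon_mul (heff k) hle]
      exact hD
    have hlt : (∑ i, Nat.find (hne D₁ hD₁ i)) < ∑ i, Nat.find (hne D hD i) := by
      refine Finset.sum_lt_sum (fun i _ => Nat.find_min' _ ?_) ⟨k, Finset.mem_univ _, ?_⟩
      · intro h
        refine Nat.find_spec (hne D hD i) (le_trans ?_ h)
        refine le_trans (le_of_eq ((congrArg (fun J => sI J (η i)) hmul).trans (PointBlow.sI_mul _ _ _))) ?_
        exact Ideal.mul_le_left
      · have hek : sI (e k).ker (η k) ≤ maximalIdeal (Y.presheaf.stalk (η k)) :=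
          IsLocalRing.le_maximalIdeal ((PointBlow.mem_support_iff _ _).1 (by
            rw [support_ker]; exact ⟨_, rfl⟩))
        have h1 : Nat.find (hne D hD k) ≠ 0 := fun h0 => by
          have := Nat.find_spec (hne D hD k)
          rw [h0, pow_zero, Ideal.one_eq_top] at this
          exact this le_top
        refine lt_of_le_of_lt (Nat.find_min' _ (m := Nat.find (hne D hD k) - 1) fun h => ?_) (by omega)
        refine Nat.find_spec (hne D hD k) ?_
        refine le_trans (le_of_eq ((congrArg (fun J => sI J (η k)) hmul).trans (PointBlow.sI_mul _ _ _))) ?_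
        refine (Ideal.mul_mono h hek).trans (le_of_eq ?_)
        rw [← pow_succ]
        congr 1
        omega
    obtain ⟨c, D', hD', hη', hpos, hsupp, hval⟩ := ih _ (lt_of_lt_of_le hlt hN) D₁ hD₁ le_rfl
    refine ⟨c + Pi.single k 1, D', hD', hη', fun i hi => ?_, fun y hy => ?_, fun i => ?_⟩
    · by_cases hik : i = k
      · subst hik; simp
      · have h1 : η i ∈ (D₁.support : Set Y) := by
          by_contra hc
          refine (PointBlow.mem_support_iff D _).1 hi ?_
          rw [hmul, PointBlow.sI_mul, PointBlow.sI_eq_top hc, PointBlow.sI_eq_top (by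
            rw [support_ker]; exact genPt_notMem (e i) (hE i) (e k) (hE k) (hdist i k hik)), Ideal.top_mul]
        simpa [Pi.single_eq_of_ne hik] using hpos i h1
    · by_cases h1 : y ∈ (D₁.support : Set Y)
      · exact hsupp y h1
      · refine Or.inr ⟨k, ?_⟩
        by_contra hc
        refine (PointBlow.mem_support_iff D _).1 hy ?_
        rw [hmul, PointBlow.sI_mul, PointBlow.sI_eq_top h1, PointBlow.sI_eq_top (by rwa [support_ker]),
          Ideal.top_mul]
    · rw [hmul, hδ i _ _ hD₁ (heff k), hval i]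
      simp only [Pi.add_apply, Nat.cast_add, add_mul, Finset.sum_add_distrib]
      have : ∑ j, ((Pi.single k 1 : Fin r → ℕ) j : ℤ) * δ i (e j).ker = δ i (e k).ker := by
        rw [Finset.sum_eq_single k (fun j _ hj => by simp [Pi.single_eq_of_ne hj]) (by simp)]
        simp
      rw [this]
      ring

variable {R : Type u} [CommRing R] [IsDomain R] [IsNoetherianRing R] [IsLocalRing R] [IsIntegrallyClosed R]
  (π : Y ⟶ Spec (CommRingCat.of R))

/-- The intersection form of the exceptional curves is negative definite. -/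
theorem sum_neg [IsProper π] (hdim : ringKrullDim R = 2)
    (hreg : ∀ y : Y, IsRegularLocalRing (Y.presheaf.stalk y))
    (U : (Spec (CommRingCat.of R)).Opens) (hU : ∀ p, p ∈ U ↔ p ≠ IsLocalRing.closedPoint R)
    (hbir : IsIso (π ∣_ U)) (hE : ∀ i, topologicalKrullDim (E i) = 1)
    (s : ∀ i, E i ⟶ Spec (CommRingCat.of (ResidueField R)))
    (hs : ∀ i, e i ≫ π = s i ≫ Spec.map (CommRingCat.ofHom (IsLocalRing.residue R)))
    (hdist : ∀ i j, i ≠ j → Set.range (e i).base ≠ Set.range (e j).base)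
    (hcov : ∀ y : Y, π.base y ∉ U → ∃ i, y ∈ Set.range (e i).base)
    (L : Fin r → Y.Modules) (hL : ∀ j, ClSub.IsInverseOf (L j) (ClSub.idealMod (e j).ker))
    (x : Fin r → ℤ) (hx : x ≠ 0) :
    ∑ i, ∑ j, x i * x j *
      @Curv2.deg (ResidueField R) _ (E i) ⟨s i⟩ ((Scheme.Modules.pullback (e i)).obj (L j)) 1 < 0 := by
  classical
  haveI : IsLocallyNoetherian (Spec (CommRingCat.of R)) := inferInstance
  haveI hsp : ∀ i, IsProper (s i) := fun i => by
    haveI : IsProper (s i ≫ Spec.map (CommRingCat.ofHom (IsLocalRing.residue R))) := by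
      rw [← hs i]; infer_instance
    exact IsProper.of_comp (s i) (Spec.map (CommRingCat.ofHom (IsLocalRing.residue R)))
  -- points of the base
  let pt : ↥(Spec (CommRingCat.of R)) := IsLocalRing.closedPoint R
  have hm : maximalIdeal R ≠ ⊥ := fun h => by
    have h2 := IsLocalRing.maximalIdeal_height_eq_ringKrullDim (R := R)
    rw [h, Ideal.height_bot, hdim] at h2
    exact absurd (WithBot.coe_eq_coe.1 (h2.trans (by rfl) : ((0 : ℕ∞) : WithBot ℕ∞) = ((2 : ℕ∞) : WithBot ℕ∞)))
      (by decide)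
  have hgenpt : genericPoint ↥(Spec (CommRingCat.of R)) ≠ pt := fun h => hm (by
    have h2 := congrArg PrimeSpectrum.asIdeal h
    rw [AlgebraicGeometry.genericPoint_eq_bot_of_affine] at h2
    exact h2.symm)
  have hUne : (U : Set ↥(Spec (CommRingCat.of R))).Nonempty := ⟨_, (hU _).2 hgenpt⟩
  haveI := hbir
  have hgenY : π (genericPoint Y) = genericPoint ↥(Spec (CommRingCat.of R)) :=
    BiratFibre.apply_genericPoint_eq π hUne
  have hsurj : Function.Surjective π := BiratFibre.surjective π hUne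
  have hbir' : IsIso (π.stalkMap (genericPoint Y)) := by
    haveI : IsOpenImmersion ((π ⁻¹ᵁ U).ι ≫ π) := by rw [← morphismRestrict_ι]; infer_instance
    exact PurBir.isIso_stalkMap_of_mem π (W := π ⁻¹ᵁ U) (show π (genericPoint Y) ∈ U by
      rw [hgenY]; exact (hU _).2 hgenpt)
  have hd : ∀ y : Y, ringKrullDim (Y.presheaf.stalk y) ≤ 2 := fun y => by
    refine (NormSeq.dim_le π hbir' y).trans ?_
    letI : Algebra R ((Spec (CommRingCat.of R)).presheaf.stalk (π y)) := (StructureSheaf.toStalk R (π y)).hom.toAlgebra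
    haveI : IsLocalization.AtPrime ((Spec (CommRingCat.of R)).presheaf.stalk (π y)) (π y).asIdeal :=
      inferInstanceAs (IsLocalization.AtPrime ((Spec.structureSheaf R).presheaf.stalk (π y)) (π y).asIdeal)
    rw [IsLocalization.AtPrime.ringKrullDim_eq_height (π y).asIdeal, ← hdim]
    exact Ideal.height_le_ringKrullDim_of_ne_top (π y).2.ne_top
  have hrange : ∀ i, ∀ y ∈ Set.range (e i).base, π y = pt := by
    rintro i _ ⟨w, rfl⟩
    show (e i ≫ π) w = pt
    rw [hs i, Scheme.Hom.comp_apply]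
    exact (congrArg _ (Subsingleton.elim ((s i) w) (IsLocalRing.closedPoint (ResidueField R)))).trans
      (IsLocalRing.comap_closedPoint (IsLocalRing.residue R))
  have hηgen : ∀ i, e i (genericPoint (E i)) ≠ genericPoint Y := fun i h => hgenpt (by
    rw [← hgenY, ← h]; exact hrange i _ ⟨_, rfl⟩)
  have heff : ∀ i, BlowUp.IsEffCartierIdeal (e i).ker := fun i =>
    (isEffCartier_ker (e i) hd hreg (hE i) (hηgen i)).1
  -- the principal divisor of a function vanishing at the closed point
  obtain ⟨h, hh, hh0⟩ := Submodule.exists_mem_ne_zero_of_ne_bot hm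
  let g : Γ(Y, ⊤) := Coh.toGlobal π h
  have hbas : Y.basicOpen g = π ⁻¹ᵁ PrimeSpectrum.basicOpen h := by
    show Y.basicOpen (π.appTop ((Scheme.ΓSpecIso (CommRingCat.of R)).inv h)) = _
    rw [← Scheme.preimage_basicOpen_top, basicOpen_eq_of_affine]
  let t : ∀ V : Y.Opens, Γ(Y, V) := fun V => Y.presheaf.map (homOfLE le_top).op g
  have ht : ∀ V : Y.Opens, t V ∈ nonZeroDivisors Γ(Y, V) := fun V => by
    by_cases hV : Nonempty V
    · haveI := hV
      refine mem_nonZeroDivisors_of_ne_zero fun h0 => ?_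
      have h1 : Y.basicOpen (t V) = ⊥ := by rw [h0, Scheme.basicOpen_zero]
      rw [Scheme.basicOpen_res, hbas] at h1
      have h2 : genericPoint Y ∈ V ⊓ π ⁻¹ᵁ PrimeSpectrum.basicOpen h := by
        obtain ⟨⟨v, hv⟩⟩ := hV
        refine ⟨(genericPoint_specializes v).mem_open V.isOpen hv, ?_⟩
        show π (genericPoint Y) ∈ PrimeSpectrum.basicOpen h
        rw [hgenY, AlgebraicGeometry.genericPoint_eq_bot_of_affine]
        show h ∉ (⊥ : Ideal R)
        exact fun h' => hh0 ((Ideal.mem_bot).1 h')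
      rw [h1] at h2
      exact h2
    · haveI : Subsingleton Γ(Y, V) := by
        have : V = ⊥ := Opens.ext (Set.eq_empty_iff_forall_notMem.2 fun v hv => hV ⟨⟨v, hv⟩⟩)
        rw [this]; infer_instance
      rw [mem_nonZeroDivisors_iff_right]
      exact fun a _ => Subsingleton.elim _ _
  let D := (BlowUpLib.centre (Ideal.span {h})).comap π
  have hDI : ∀ V : Y.affineOpens, D.ideal V = Ideal.span {t V.1} := fun V => by
    rw [BlowUpLib.ideal_comap_centre, Ideal.map_span, Set.image_singleton]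
    congr 2
  have hD : BlowUp.IsEffCartierIdeal D := fun y => by
    obtain ⟨V, hV, hyV, -⟩ := exists_isAffineOpen_mem_and_subset (x := y) (U := ⊤) trivial
    exact ⟨⟨V, hV⟩, hyV, t V, ht V, hDI ⟨V, hV⟩⟩
  have hDcl : PicF.cl (ClSub.idealMod D) = 1 :=
    IdealCl.cl_principal D t (fun {V V'} hVV => by
      simp only [t, ← CommRingCat.comp_apply, ← Functor.map_comp]
      rfl) (fun V => ht V.1) hDI
  have hDsupp : ∀ y : Y, y ∈ (D.support : Set Y) ↔ π y ∉ PrimeSpectrum.basicOpen h := fun y => by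
    obtain ⟨V, hV, hyV, -⟩ := exists_isAffineOpen_mem_and_subset (x := y) (U := ⊤) trivial
    rw [show y ∈ (D.support : Set Y) ↔ y ∈ D.support from Iff.rfl,
      D.mem_support_iff_of_mem (U := ⟨V, hV⟩) hyV, hDI, Scheme.zeroLocus_span, Scheme.zeroLocus_singleton,
      Scheme.basicOpen_res, hbas]
    show ¬ (y ∈ V ∧ π y ∈ PrimeSpectrum.basicOpen h) ↔ _
    simp [show y ∈ V from hyV]
  -- degrees
  let δ : Fin r → Y.IdealSheafData → ℤ := fun i I =>
    @Curv2.deg (ResidueField R) _ (E i) ⟨s i⟩ ((Scheme.Modules.pullback (e i)).obj (ClSub.idealMod I)) 1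
  let a : Fin r → Fin r → ℤ := fun i j =>
    @Curv2.deg (ResidueField R) _ (E i) ⟨s i⟩ ((Scheme.Modules.pullback (e i)).obj (L j)) 1
  have hinv : ∀ {I : Y.IdealSheafData}, BlowUp.IsEffCartierIdeal I → PicF.IsInvertible (ClSub.idealMod I) :=
    fun h => IdealCl.isInvertible_idealMod h
  have hneg : ∀ i {I : Y.IdealSheafData} {M : Y.Modules}, BlowUp.IsEffCartierIdeal I →
      ClSub.IsInverseOf M (ClSub.idealMod I) →
      δ i I = - @Curv2.deg (ResidueField R) _ (E i) ⟨s i⟩ ((Scheme.Modules.pullback (e i)).obj M) 1 := by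
    intro i I M hI hM
    have hMi := ArInter.isInvertible_of_inverse (hinv hI) hM
    have h0 := deg_pullback_congr (e i) (s i) (hE i) (L := CohB1.tensorMod M (ClSub.idealMod I))
      (M := Coh.structureModule Y) (PicMul.cl_eq_iff.2 hM)
    rw [deg_pullback_mul (e i) (s i) (hE i) hMi (hinv hI), deg_pullback_structure (e i) (s i) (hE i)] at h0
    show δ i I = _
    simp only [δ]
    omega
  have hδ : ∀ i A B, BlowUp.IsEffCartierIdeal A → BlowUp.IsEffCartierIdeal B → δ i (A * B) = δ i A + δ i B := by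
    intro i A B hA hB
    refine (deg_pullback_congr (e i) (s i) (hE i) (M := CohB1.tensorMod (ClSub.idealMod A) (ClSub.idealMod B)) ?_).trans
      (deg_pullback_mul (e i) (s i) (hE i) (hinv hA) (hinv hB))
    rw [PicMul.cl_tensor, IdealCl.cl_mul B A hA]
  obtain ⟨c, D', hD', hη', hpos, hsupp, hval⟩ := exists_decomp E e hE hdist heff δ hδ D hD
  obtain ⟨M, hMi, eM⟩ := PicInv.exists_inverse (hinv hD')
  have hM : ClSub.IsInverseOf M (ClSub.idealMod D') := by
    obtain ⟨cm⟩ := PicMul.comm M (ClSub.idealMod D')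
    obtain ⟨e'⟩ := eM
    first
      | exact ⟨e'⟩
      | exact ⟨cm ≪≫ e'⟩
  let ℓ : Fin r → ℤ := fun i =>
    @Curv2.deg (ResidueField R) _ (E i) ⟨s i⟩ ((Scheme.Modules.pullback (e i)).obj M) 1
  have hℓ : ∀ i, 0 ≤ ℓ i ∧ (ℓ i = 0 ↔ Disjoint (Set.range (e i).base) (D'.support : Set Y)) := fun i =>
    deg_nonneg_and_eq_zero_iff (e i) (s i) (hE i) hD' (hη' i) hM
  have hrow : ∀ i, ∑ j, (c j : ℤ) * a i j = - ℓ i := fun i => by
    have h0 : δ i D = 0 := by
      refine (deg_pullback_congr (e i) (s i) (hE i) (M := Coh.structureModule Y) ?_).trans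
        (deg_pullback_structure (e i) (s i) (hE i))
      rw [hDcl]; rfl
    have h1 := hval i
    rw [h0, hneg i hD' hM] at h1
    have h2 : ∀ j, δ i (e j).ker = - a i j := fun j => hneg i (heff j) (hL j)
    simp only [h2, mul_neg, Finset.sum_neg_distrib] at h1
    show _ = - @Curv2.deg (ResidueField R) _ (E i) ⟨s i⟩ ((Scheme.Modules.pullback (e i)).obj M) 1
    omega
  have hcpos : ∀ i, 0 < c i := fun i => hpos i ((hDsupp _).2 (by
    rw [hrange i _ ⟨_, rfl⟩]
    exact fun h' => h' hh))
  obtain ⟨y₁, hy₁, hy₁'⟩ : ∃ y : Y, π y ≠ pt ∧ y ∈ (D.support : Set Y) := by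
    obtain ⟨p, hp, -⟩ := Ideal.exists_minimalPrimes_le (J := maximalIdeal R) (I := Ideal.span {h})
      ((Ideal.span_singleton_le_iff_mem _).2 hh)
    haveI : p.IsPrime := hp.1.1
    have hp1 : p.height ≤ 1 := Ideal.height_le_one_of_isPrincipal_of_mem_minimalPrimes (Ideal.span {h}) p hp
    obtain ⟨y, hy⟩ := hsurj (⟨p, inferInstance⟩ : PrimeSpectrum R)
    refine ⟨y, fun h' => ?_, (hDsupp y).2 ?_⟩
    · have h2 : p = maximalIdeal R := congrArg PrimeSpectrum.asIdeal (hy.symm.trans h')
      have h3 := IsLocalRing.maximalIdeal_height_eq_ringKrullDim (R := R)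
      rw [← h2, hdim] at h3
      have h4 : ((p.height : ℕ∞) : WithBot ℕ∞) ≤ ((1 : ℕ∞) : WithBot ℕ∞) := WithBot.coe_le_coe.2 hp1
      rw [h3] at h4
      exact absurd (WithBot.coe_le_coe.1 (h4 : ((2 : ℕ∞) : WithBot ℕ∞) ≤ ((1 : ℕ∞) : WithBot ℕ∞))) (by decide)
    · rw [hy]
      exact fun h' => h' (hp.1.2 (Ideal.mem_span_singleton_self h))
  have hy₁D : y₁ ∈ (D'.support : Set Y) := (hsupp y₁ hy₁').resolve_right fun ⟨i, hi⟩ => hy₁ (hrange i y₁ hi)
  obtain ⟨z, hz, hzp⟩ : pt ∈ π '' (D'.support : Set Y) :=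
    (IsLocalRing.specializes_closedPoint (π y₁)).mem_closed (π.isClosedMap _ D'.support.isClosed) ⟨y₁, hy₁D, rfl⟩
  have hzU : π.base z ∉ U := fun h' => (hU _).1 h' hzp
  obtain ⟨k, hk⟩ := hcov z hzU
  have hℓk : ℓ k ≠ 0 := fun h0 => Set.disjoint_left.1 ((hℓ k).2.1 h0) hk hz
  have hoff : ∀ i j, i ≠ j → 0 ≤ a i j ∧ (a i j = 0 ↔ Disjoint (Set.range (e i).base) (Set.range (e j).base)) :=
    fun i j hij => by
      have h1 := deg_nonneg_and_eq_zero_iff (e i) (s i) (hE i) (heff j)
        (by rw [support_ker]; exact genPt_notMem (e i) (hE i) (e j) (hE j) (hdist i j hij)) (hL j)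
      rw [support_ker] at h1
      exact h1
  have hsym : ∀ i j, a i j = a j i := fun i j => by
    by_cases hij : i = j
    · rw [hij]
    · exact deg_symm (e i) π (hE i) (s i) (hs i) (e j) (hE j) (s j) (hs j) (hdist i j hij) (heff i) (heff j)
        (hL i) (hL j)
  have hconn : ∀ S : Finset (Fin r), S.Nonempty → S ≠ Finset.univ → ∃ i ∈ S, ∃ j ∉ S, (a i j : ℚ) ≠ 0 := by
    intro S hS hS'
    by_contra hcon
    simp only [not_exists, not_and, ne_eq, not_not, Int.cast_eq_zero] at hcon
    have hcl : ∀ T : Finset (Fin r), IsClosed (⋃ i ∈ T, Set.range (e i).base) := fun T =>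
      T.finite_toSet.isClosed_biUnion fun i _ => (e i).isClosedEmbedding.isClosed_range
    haveI : IsIntegrallyClosed ((Spec (CommRingCat.of R)).presheaf.stalk pt) :=
      (GeomIrrSpread.isNormalScheme_spec (CommRingCat.of R) pt).2
    have hF := BiratFibre.isConnected_preimage π hUne pt
    have hsubF : ∀ i, Set.range (e i).base ⊆ π ⁻¹' {pt} := fun i y hy => hrange i y hy
    have hcovF : π ⁻¹' {pt} ⊆ (⋃ i ∈ S, Set.range (e i).base) ∪ ⋃ i ∈ Sᶜ, Set.range (e i).base := by
      intro y hy
      obtain ⟨i, hi⟩ := hcov y fun h' => (hU _).1 h' hy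
      by_cases hiS : i ∈ S
      · exact Or.inl (Set.mem_biUnion hiS hi)
      · exact Or.inr (Set.mem_biUnion (Finset.mem_compl.2 hiS) hi)
    obtain ⟨i₀, hi₀⟩ := hS
    obtain ⟨j₀, hj₀⟩ : ∃ j, j ∉ S := by
      by_contra h'
      simp only [not_exists, not_not] at h'
      exact hS' (Finset.eq_univ_iff_forall.2 h')
    have hne : ∀ (T : Finset (Fin r)) (k), k ∈ T →
        (π ⁻¹' {pt} ∩ ⋃ i ∈ T, Set.range (e i).base).Nonempty := fun T k hk =>
      ⟨_, hsubF k ⟨genericPoint _, rfl⟩, Set.mem_biUnion hk ⟨genericPoint _, rfl⟩⟩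
    obtain ⟨y, -, hy1, hy2⟩ := isPreconnected_closed_iff.1 hF.isPreconnected _ _ (hcl S) (hcl Sᶜ) hcovF
      (hne S i₀ hi₀) (hne Sᶜ j₀ (Finset.mem_compl.2 hj₀))
    simp only [Set.mem_iUnion] at hy1 hy2
    obtain ⟨i, hi, hyi⟩ := hy1
    obtain ⟨j, hj, hyj⟩ := hy2
    have hj' := Finset.mem_compl.1 hj
    have hij : i ≠ j := fun h' => hj' (h' ▸ hi)
    exact Set.disjoint_left.1 ((hoff i j hij).2.1 (hcon i hi j hj')) hyi hyj
  have key := form_neg (fun i j => (a i j : ℚ)) (fun i => (c i : ℚ))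
    (fun i j => by exact_mod_cast congrArg (Int.cast : ℤ → ℚ) (hsym i j))
    (fun i j hij => by exact_mod_cast (hoff i j hij).1)
    (fun i => by exact_mod_cast hcpos i)
    (fun i => by
      have h1 := hrow i
      have h2 := (hℓ i).1
      have : ∑ j, (c j : ℤ) * a i j ≤ 0 := by omega
      exact_mod_cast this)
    ⟨k, by
      have h1 := hrow k
      have h2 := (hℓ k).1
      have : ∑ j, (c j : ℤ) * a k j < 0 := by omega
      exact_mod_cast this⟩
    hconn (fun i => (x i : ℚ)) (fun h' => hx (funext fun i => by simpa using congrFun h' i))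
  simp only [InterForm.form] at key
  exact_mod_cast key

end Groth.Agent.ExcForm
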